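import Cfsg.Agent.Lib.Helper9.TCData.L37C0.Main

set_option autoImplicit false
set_option maxRecDepth 1000000

namespace Cfsg.Agent.Helper9.TCData.L37C0
open Cfsg.Agent.Helper9.TC2

theorem e0_8 : allRange 14958 1840 (fun u => chkE tab 0 u) = true := by decide +kernel

theorem e0_9 : allRange 16798 1831 (fun u => chkE tab 0 u) = true := by decide +kernel

theorem e0_10 : allRange 18629 1857 (fun u => chkE tab 0 u) = true := by decide +kernel

theorem e0_11 : allRange 20486 1850 (fun u => chkE tab 0 u) = true := by decide +kernel

theorem e0_12 : allRange 22336 1830 (fun u => chkE tab 0 u) = true := by decide +kernel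

theorem e0_13 : allRange 24166 1922 (fun u => chkE tab 0 u) = true := by decide +kernel

theorem e1_0 : allRange 0 6291 (fun u => chkE tab 1 u) = true := by decide +kernel

theorem e1_1 : allRange 6291 6148 (fun u => chkE tab 1 u) = true := by decide +kernel


end Cfsg.Agent.Helper9.TCData.L37C0
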