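import Cfsg.Agent.Lib.Helper9.TCData.L37C0.Main

set_option autoImplicit false
set_option maxRecDepth 1000000

namespace Cfsg.Agent.Helper9.TCData.L37C0
open Cfsg.Agent.Helper9.TC2

theorem f_48 : allRange 19200 400 (fun u => chkFin tab u) = true := by decide +kernel

theorem f_49 : allRange 19600 400 (fun u => chkFin tab u) = true := by decide +kernel

theorem f_50 : allRange 20000 400 (fun u => chkFin tab u) = true := by decide +kernel

theorem f_51 : allRange 20400 400 (fun u => chkFin tab u) = true := by decide +kernel

theorem f_52 : allRange 20800 400 (fun u => chkFin tab u) = true := by decide +kernel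

theorem f_53 : allRange 21200 400 (fun u => chkFin tab u) = true := by decide +kernel

theorem f_54 : allRange 21600 400 (fun u => chkFin tab u) = true := by decide +kernel

theorem f_55 : allRange 22000 400 (fun u => chkFin tab u) = true := by decide +kernel


end Cfsg.Agent.Helper9.TCData.L37C0
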