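import Cfsg.Agent.Lib.Helper9.TCData.L37C0.Main

set_option autoImplicit false
set_option maxRecDepth 1000000

namespace Cfsg.Agent.Helper9.TCData.L37C0
open Cfsg.Agent.Helper9.TC2

theorem e1_2 : allRange 12439 5775 (fun u => chkE tab 1 u) = true := by decide +kernel

theorem e1_3 : allRange 18214 5615 (fun u => chkE tab 1 u) = true := by decide +kernel

theorem e1_4 : allRange 23829 2259 (fun u => chkE tab 1 u) = true := by decide +kernel

theorem e2_0 : allRange 0 2590 (fun u => chkE tab 2 u) = true := by decide +kernel

theorem e2_1 : allRange 2590 2607 (fun u => chkE tab 2 u) = true := by decide +kernel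

theorem e2_2 : allRange 5197 2568 (fun u => chkE tab 2 u) = true := by decide +kernel

theorem e2_3 : allRange 7765 2587 (fun u => chkE tab 2 u) = true := by decide +kernel

theorem e2_4 : allRange 10352 2548 (fun u => chkE tab 2 u) = true := by decide +kernel


end Cfsg.Agent.Helper9.TCData.L37C0
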