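import Cfsg.Agent.Lib.Helper9.TCData.L37C0.Main

set_option autoImplicit false
set_option maxRecDepth 1000000

namespace Cfsg.Agent.Helper9.TCData.L37C0
open Cfsg.Agent.Helper9.TC2

theorem ma_6 : allRange 24000 2068 (fun u => chkAux tab aux u) = true := by decide +kernel

theorem m2_0 : allRange 0 176 (fun u => chkFix tab mwordsA u) = true := by decide +kernel

theorem m2_1 : allRange 176 176 (fun u => chkFix tab mwordsA u) = true := by decide +kernel

theorem m2_2 : allRange 352 176 (fun u => chkFix tab mwordsA u) = true := by decide +kernel

theorem m2_3 : allRange 528 176 (fun u => chkFix tab mwordsA u) = true := by decide +kernel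

theorem m2_4 : allRange 704 176 (fun u => chkFix tab mwordsA u) = true := by decide +kernel

theorem m2_5 : allRange 880 176 (fun u => chkFix tab mwordsA u) = true := by decide +kernel

theorem m2_6 : allRange 1056 176 (fun u => chkFix tab mwordsA u) = true := by decide +kernel


end Cfsg.Agent.Helper9.TCData.L37C0
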