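import Cfsg.Agent.Lib.Helper9.TCData.L37C0.Main

set_option autoImplicit false
set_option maxRecDepth 1000000

namespace Cfsg.Agent.Helper9.TCData.L37C0
open Cfsg.Agent.Helper9.TC2

theorem e3_2 : allRange 6390 3290 (fun u => chkE tab 3 u) = true := by decide +kernel

theorem e3_3 : allRange 9680 2951 (fun u => chkE tab 3 u) = true := by decide +kernel

theorem e3_4 : allRange 12631 2917 (fun u => chkE tab 3 u) = true := by decide +kernel

theorem e3_5 : allRange 15548 2625 (fun u => chkE tab 3 u) = true := by decide +kernel

theorem e3_6 : allRange 18173 2731 (fun u => chkE tab 3 u) = true := by decide +kernel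

theorem e3_7 : allRange 20904 3040 (fun u => chkE tab 3 u) = true := by decide +kernel

theorem e3_8 : allRange 23944 2144 (fun u => chkE tab 3 u) = true := by decide +kernel

theorem e4_0 : allRange 0 3562 (fun u => chkE tab 4 u) = true := by decide +kernel


end Cfsg.Agent.Helper9.TCData.L37C0
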