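import Cfsg.Agent.Lib.Helper9.TCData.L37C0.Main

set_option autoImplicit false
set_option maxRecDepth 1000000

namespace Cfsg.Agent.Helper9.TCData.L37C0
open Cfsg.Agent.Helper9.TC2

theorem e4_1 : allRange 3562 3329 (fun u => chkE tab 4 u) = true := by decide +kernel

theorem e4_2 : allRange 6891 3171 (fun u => chkE tab 4 u) = true := by decide +kernel

theorem e4_3 : allRange 10062 3454 (fun u => chkE tab 4 u) = true := by decide +kernel

theorem e4_4 : allRange 13516 3428 (fun u => chkE tab 4 u) = true := by decide +kernel

theorem e4_5 : allRange 16944 3247 (fun u => chkE tab 4 u) = true := by decide +kernel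

theorem e4_6 : allRange 20191 2901 (fun u => chkE tab 4 u) = true := by decide +kernel

theorem e4_7 : allRange 23092 2996 (fun u => chkE tab 4 u) = true := by decide +kernel

theorem e5_0 : allRange 0 3442 (fun u => chkE tab 5 u) = true := by decide +kernel


end Cfsg.Agent.Helper9.TCData.L37C0
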