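import Cfsg.Agent.Lib.Helper9.TCData.L37C0.Main

set_option autoImplicit false
set_option maxRecDepth 1000000

namespace Cfsg.Agent.Helper9.TCData.L37C0
open Cfsg.Agent.Helper9.TC2

theorem e5_1 : allRange 3442 3556 (fun u => chkE tab 5 u) = true := by decide +kernel

theorem e5_2 : allRange 6998 3507 (fun u => chkE tab 5 u) = true := by decide +kernel

theorem e5_3 : allRange 10505 3304 (fun u => chkE tab 5 u) = true := by decide +kernel

theorem e5_4 : allRange 13809 3144 (fun u => chkE tab 5 u) = true := by decide +kernel

theorem e5_5 : allRange 16953 3236 (fun u => chkE tab 5 u) = true := by decide +kernel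

theorem e5_6 : allRange 20189 3357 (fun u => chkE tab 5 u) = true := by decide +kernel

theorem e5_7 : allRange 23546 2542 (fun u => chkE tab 5 u) = true := by decide +kernel


end Cfsg.Agent.Helper9.TCData.L37C0
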