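import Cfsg.Agent.Lib.Helper9.TCData.L37C0.S0
import Cfsg.Agent.Lib.Helper9.TCData.L37C0.S1
import Cfsg.Agent.Lib.Helper9.TCData.L37C0.S2
import Cfsg.Agent.Lib.Helper9.TCData.L37C0.S3
import Cfsg.Agent.Lib.Helper9.TCData.L37C0.S4
import Cfsg.Agent.Lib.Helper9.TCData.L37C0.S5
import Cfsg.Agent.Lib.Helper9.TCData.L37C0.S6
import Cfsg.Agent.Lib.Helper9.TCData.L37C0.S7
import Cfsg.Agent.Lib.Helper9.TCData.L37C0.S8
import Cfsg.Agent.Lib.Helper9.TCData.L37C0.S9
import Cfsg.Agent.Lib.Helper9.TCData.L37C0.S10
import Cfsg.Agent.Lib.Helper9.TCData.L37C0.S11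
import Cfsg.Agent.Lib.Helper9.TCData.L37C0.S12
import Cfsg.Agent.Lib.Helper9.TCData.L37C0.S13
import Cfsg.Agent.Lib.Helper9.TCData.L37C0.S14
import Cfsg.Agent.Lib.Helper9.TCData.L37C0.S15
import Cfsg.Agent.Lib.Helper9.TCData.L37C0.S16
import Cfsg.Agent.Lib.Helper9.TCData.L37C0.S17
import Cfsg.Agent.Lib.Helper9.TCData.L37C0.S18
import Cfsg.Agent.Lib.Helper9.TCData.L37C0.S19
import Cfsg.Agent.Lib.Helper9.TCData.L37C0.S20
import Cfsg.Agent.Lib.Helper9.TCData.L37C0.S21
import Cfsg.Agent.Lib.Helper9.TCData.L37C0.S22
import Cfsg.Agent.Lib.Helper9.TCData.L37C0.S23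
import Cfsg.Agent.Lib.Helper9.TCData.L37C0.S24
import Cfsg.Agent.Lib.Helper9.TCData.L37C0.S25
import Cfsg.Agent.Lib.Helper9.TCData.L37C0.S26
import Cfsg.Agent.Lib.Helper9.TCData.L37C0.S27
import Cfsg.Agent.Lib.Helper9.TCData.L37C0.S28
import Cfsg.Agent.Lib.Helper9.TCData.L37C0.S29
import Cfsg.Agent.Lib.Helper9.TCData.L37C0.S30
import Cfsg.Agent.Lib.Helper9.TCData.L37C0.S31
import Cfsg.Agent.Lib.Helper9.TCData.L37C0.S32
import Cfsg.Agent.Lib.Helper9.TCData.L37C0.S33
import Cfsg.Agent.Lib.Helper9.TCData.L37C0.S34
import Cfsg.Agent.Lib.Helper9.TCData.L37C0.S35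
import Cfsg.Agent.Lib.Helper9.TCData.L37C0.S36
import Cfsg.Agent.Lib.Helper9.TCData.L37C0.S37
import Cfsg.Agent.Lib.Helper9.TCData.L37C0.S38
import Cfsg.Agent.Lib.Helper9.TCData.L37C0.S39
import Cfsg.Agent.Lib.Helper9.TCData.L37C0.S40

set_option autoImplicit false
set_option maxRecDepth 1000000

namespace Cfsg.Agent.Helper9.TCData.L37C0
open Cfsg.Agent.Helper9.TC2


theorem hE0 : ∀ u < 26088, chkE tab 0 u = true := by
  have h0 : ∀ u < 0, (fun u => chkE tab 0 u) u = true := range_zero
  have h1 : ∀ u < 1905, (fun u => chkE tab 0 u) u = true := ext_range (a := 0) (len := 1905) h0 e0_0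
  have h2 : ∀ u < 3763, (fun u => chkE tab 0 u) u = true := ext_range (a := 1905) (len := 1858) h1 e0_1
  have h3 : ∀ u < 5600, (fun u => chkE tab 0 u) u = true := ext_range (a := 3763) (len := 1837) h2 e0_2
  have h4 : ∀ u < 7474, (fun u => chkE tab 0 u) u = true := ext_range (a := 5600) (len := 1874) h3 e0_3
  have h5 : ∀ u < 9374, (fun u => chkE tab 0 u) u = true := ext_range (a := 7474) (len := 1900) h4 e0_4
  have h6 : ∀ u < 11224, (fun u => chkE tab 0 u) u = true := ext_range (a := 9374) (len := 1850) h5 e0_5
  have h7 : ∀ u < 13110, (fun u => chkE tab 0 u) u = true := ext_range (a := 11224) (len := 1886) h6 e0_6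
  have h8 : ∀ u < 14958, (fun u => chkE tab 0 u) u = true := ext_range (a := 13110) (len := 1848) h7 e0_7
  have h9 : ∀ u < 16798, (fun u => chkE tab 0 u) u = true := ext_range (a := 14958) (len := 1840) h8 e0_8
  have h10 : ∀ u < 18629, (fun u => chkE tab 0 u) u = true := ext_range (a := 16798) (len := 1831) h9 e0_9
  have h11 : ∀ u < 20486, (fun u => chkE tab 0 u) u = true := ext_range (a := 18629) (len := 1857) h10 e0_10
  have h12 : ∀ u < 22336, (fun u => chkE tab 0 u) u = true := ext_range (a := 20486) (len := 1850) h11 e0_11
  have h13 : ∀ u < 24166, (fun u => chkE tab 0 u) u = true := ext_range (a := 22336) (len := 1830) h12 e0_12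
  have h14 : ∀ u < 26088, (fun u => chkE tab 0 u) u = true := ext_range (a := 24166) (len := 1922) h13 e0_13
  exact h14

theorem hE1 : ∀ u < 26088, chkE tab 1 u = true := by
  have h0 : ∀ u < 0, (fun u => chkE tab 1 u) u = true := range_zero
  have h1 : ∀ u < 6291, (fun u => chkE tab 1 u) u = true := ext_range (a := 0) (len := 6291) h0 e1_0
  have h2 : ∀ u < 12439, (fun u => chkE tab 1 u) u = true := ext_range (a := 6291) (len := 6148) h1 e1_1
  have h3 : ∀ u < 18214, (fun u => chkE tab 1 u) u = true := ext_range (a := 12439) (len := 5775) h2 e1_2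
  have h4 : ∀ u < 23829, (fun u => chkE tab 1 u) u = true := ext_range (a := 18214) (len := 5615) h3 e1_3
  have h5 : ∀ u < 26088, (fun u => chkE tab 1 u) u = true := ext_range (a := 23829) (len := 2259) h4 e1_4
  exact h5

theorem hE2 : ∀ u < 26088, chkE tab 2 u = true := by
  have h0 : ∀ u < 0, (fun u => chkE tab 2 u) u = true := range_zero
  have h1 : ∀ u < 2590, (fun u => chkE tab 2 u) u = true := ext_range (a := 0) (len := 2590) h0 e2_0
  have h2 : ∀ u < 5197, (fun u => chkE tab 2 u) u = true := ext_range (a := 2590) (len := 2607) h1 e2_1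
  have h3 : ∀ u < 7765, (fun u => chkE tab 2 u) u = true := ext_range (a := 5197) (len := 2568) h2 e2_2
  have h4 : ∀ u < 10352, (fun u => chkE tab 2 u) u = true := ext_range (a := 7765) (len := 2587) h3 e2_3
  have h5 : ∀ u < 12900, (fun u => chkE tab 2 u) u = true := ext_range (a := 10352) (len := 2548) h4 e2_4
  have h6 : ∀ u < 15367, (fun u => chkE tab 2 u) u = true := ext_range (a := 12900) (len := 2467) h5 e2_5
  have h7 : ∀ u < 17932, (fun u => chkE tab 2 u) u = true := ext_range (a := 15367) (len := 2565) h6 e2_6
  have h8 : ∀ u < 20525, (fun u => chkE tab 2 u) u = true := ext_range (a := 17932) (len := 2593) h7 e2_7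
  have h9 : ∀ u < 23250, (fun u => chkE tab 2 u) u = true := ext_range (a := 20525) (len := 2725) h8 e2_8
  have h10 : ∀ u < 25870, (fun u => chkE tab 2 u) u = true := ext_range (a := 23250) (len := 2620) h9 e2_9
  have h11 : ∀ u < 26088, (fun u => chkE tab 2 u) u = true := ext_range (a := 25870) (len := 218) h10 e2_10
  exact h11

theorem hE3 : ∀ u < 26088, chkE tab 3 u = true := by
  have h0 : ∀ u < 0, (fun u => chkE tab 3 u) u = true := range_zero
  have h1 : ∀ u < 3095, (fun u => chkE tab 3 u) u = true := ext_range (a := 0) (len := 3095) h0 e3_0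
  have h2 : ∀ u < 6390, (fun u => chkE tab 3 u) u = true := ext_range (a := 3095) (len := 3295) h1 e3_1
  have h3 : ∀ u < 9680, (fun u => chkE tab 3 u) u = true := ext_range (a := 6390) (len := 3290) h2 e3_2
  have h4 : ∀ u < 12631, (fun u => chkE tab 3 u) u = true := ext_range (a := 9680) (len := 2951) h3 e3_3
  have h5 : ∀ u < 15548, (fun u => chkE tab 3 u) u = true := ext_range (a := 12631) (len := 2917) h4 e3_4
  have h6 : ∀ u < 18173, (fun u => chkE tab 3 u) u = true := ext_range (a := 15548) (len := 2625) h5 e3_5
  have h7 : ∀ u < 20904, (fun u => chkE tab 3 u) u = true := ext_range (a := 18173) (len := 2731) h6 e3_6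
  have h8 : ∀ u < 23944, (fun u => chkE tab 3 u) u = true := ext_range (a := 20904) (len := 3040) h7 e3_7
  have h9 : ∀ u < 26088, (fun u => chkE tab 3 u) u = true := ext_range (a := 23944) (len := 2144) h8 e3_8
  exact h9

theorem hE4 : ∀ u < 26088, chkE tab 4 u = true := by
  have h0 : ∀ u < 0, (fun u => chkE tab 4 u) u = true := range_zero
  have h1 : ∀ u < 3562, (fun u => chkE tab 4 u) u = true := ext_range (a := 0) (len := 3562) h0 e4_0
  have h2 : ∀ u < 6891, (fun u => chkE tab 4 u) u = true := ext_range (a := 3562) (len := 3329) h1 e4_1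
  have h3 : ∀ u < 10062, (fun u => chkE tab 4 u) u = true := ext_range (a := 6891) (len := 3171) h2 e4_2
  have h4 : ∀ u < 13516, (fun u => chkE tab 4 u) u = true := ext_range (a := 10062) (len := 3454) h3 e4_3
  have h5 : ∀ u < 16944, (fun u => chkE tab 4 u) u = true := ext_range (a := 13516) (len := 3428) h4 e4_4
  have h6 : ∀ u < 20191, (fun u => chkE tab 4 u) u = true := ext_range (a := 16944) (len := 3247) h5 e4_5
  have h7 : ∀ u < 23092, (fun u => chkE tab 4 u) u = true := ext_range (a := 20191) (len := 2901) h6 e4_6
  have h8 : ∀ u < 26088, (fun u => chkE tab 4 u) u = true := ext_range (a := 23092) (len := 2996) h7 e4_7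
  exact h8

theorem hE5 : ∀ u < 26088, chkE tab 5 u = true := by
  have h0 : ∀ u < 0, (fun u => chkE tab 5 u) u = true := range_zero
  have h1 : ∀ u < 3442, (fun u => chkE tab 5 u) u = true := ext_range (a := 0) (len := 3442) h0 e5_0
  have h2 : ∀ u < 6998, (fun u => chkE tab 5 u) u = true := ext_range (a := 3442) (len := 3556) h1 e5_1
  have h3 : ∀ u < 10505, (fun u => chkE tab 5 u) u = true := ext_range (a := 6998) (len := 3507) h2 e5_2
  have h4 : ∀ u < 13809, (fun u => chkE tab 5 u) u = true := ext_range (a := 10505) (len := 3304) h3 e5_3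
  have h5 : ∀ u < 16953, (fun u => chkE tab 5 u) u = true := ext_range (a := 13809) (len := 3144) h4 e5_4
  have h6 : ∀ u < 20189, (fun u => chkE tab 5 u) u = true := ext_range (a := 16953) (len := 3236) h5 e5_5
  have h7 : ∀ u < 23546, (fun u => chkE tab 5 u) u = true := ext_range (a := 20189) (len := 3357) h6 e5_6
  have h8 : ∀ u < 26088, (fun u => chkE tab 5 u) u = true := ext_range (a := 23546) (len := 2542) h7 e5_7
  exact h8

theorem hL : ∀ u < 26088, chkL tab u = true := by
  have h0 : ∀ u < 0, (fun u => chkL tab u) u = true := range_zero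
  have h1 : ∀ u < 26088, (fun u => chkL tab u) u = true := ext_range (a := 0) (len := 26088) h0 l_0
  exact h1

theorem hF : ∀ u < 26068, chkFin tab u = true := by
  have h0 : ∀ u < 0, (fun u => chkFin tab u) u = true := range_zero
  have h1 : ∀ u < 400, (fun u => chkFin tab u) u = true := ext_range (a := 0) (len := 400) h0 f_0
  have h2 : ∀ u < 800, (fun u => chkFin tab u) u = true := ext_range (a := 400) (len := 400) h1 f_1
  have h3 : ∀ u < 1200, (fun u => chkFin tab u) u = true := ext_range (a := 800) (len := 400) h2 f_2
  have h4 : ∀ u < 1600, (fun u => chkFin tab u) u = true := ext_range (a := 1200) (len := 400) h3 f_3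
  have h5 : ∀ u < 2000, (fun u => chkFin tab u) u = true := ext_range (a := 1600) (len := 400) h4 f_4
  have h6 : ∀ u < 2400, (fun u => chkFin tab u) u = true := ext_range (a := 2000) (len := 400) h5 f_5
  have h7 : ∀ u < 2800, (fun u => chkFin tab u) u = true := ext_range (a := 2400) (len := 400) h6 f_6
  have h8 : ∀ u < 3200, (fun u => chkFin tab u) u = true := ext_range (a := 2800) (len := 400) h7 f_7
  have h9 : ∀ u < 3600, (fun u => chkFin tab u) u = true := ext_range (a := 3200) (len := 400) h8 f_8
  have h10 : ∀ u < 4000, (fun u => chkFin tab u) u = true := ext_range (a := 3600) (len := 400) h9 f_9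
  have h11 : ∀ u < 4400, (fun u => chkFin tab u) u = true := ext_range (a := 4000) (len := 400) h10 f_10
  have h12 : ∀ u < 4800, (fun u => chkFin tab u) u = true := ext_range (a := 4400) (len := 400) h11 f_11
  have h13 : ∀ u < 5200, (fun u => chkFin tab u) u = true := ext_range (a := 4800) (len := 400) h12 f_12
  have h14 : ∀ u < 5600, (fun u => chkFin tab u) u = true := ext_range (a := 5200) (len := 400) h13 f_13
  have h15 : ∀ u < 6000, (fun u => chkFin tab u) u = true := ext_range (a := 5600) (len := 400) h14 f_14
  have h16 : ∀ u < 6400, (fun u => chkFin tab u) u = true := ext_range (a := 6000) (len := 400) h15 f_15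
  have h17 : ∀ u < 6800, (fun u => chkFin tab u) u = true := ext_range (a := 6400) (len := 400) h16 f_16
  have h18 : ∀ u < 7200, (fun u => chkFin tab u) u = true := ext_range (a := 6800) (len := 400) h17 f_17
  have h19 : ∀ u < 7600, (fun u => chkFin tab u) u = true := ext_range (a := 7200) (len := 400) h18 f_18
  have h20 : ∀ u < 8000, (fun u => chkFin tab u) u = true := ext_range (a := 7600) (len := 400) h19 f_19
  have h21 : ∀ u < 8400, (fun u => chkFin tab u) u = true := ext_range (a := 8000) (len := 400) h20 f_20
  have h22 : ∀ u < 8800, (fun u => chkFin tab u) u = true := ext_range (a := 8400) (len := 400) h21 f_21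
  have h23 : ∀ u < 9200, (fun u => chkFin tab u) u = true := ext_range (a := 8800) (len := 400) h22 f_22
  have h24 : ∀ u < 9600, (fun u => chkFin tab u) u = true := ext_range (a := 9200) (len := 400) h23 f_23
  have h25 : ∀ u < 10000, (fun u => chkFin tab u) u = true := ext_range (a := 9600) (len := 400) h24 f_24
  have h26 : ∀ u < 10400, (fun u => chkFin tab u) u = true := ext_range (a := 10000) (len := 400) h25 f_25
  have h27 : ∀ u < 10800, (fun u => chkFin tab u) u = true := ext_range (a := 10400) (len := 400) h26 f_26
  have h28 : ∀ u < 11200, (fun u => chkFin tab u) u = true := ext_range (a := 10800) (len := 400) h27 f_27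
  have h29 : ∀ u < 11600, (fun u => chkFin tab u) u = true := ext_range (a := 11200) (len := 400) h28 f_28
  have h30 : ∀ u < 12000, (fun u => chkFin tab u) u = true := ext_range (a := 11600) (len := 400) h29 f_29
  have h31 : ∀ u < 12400, (fun u => chkFin tab u) u = true := ext_range (a := 12000) (len := 400) h30 f_30
  have h32 : ∀ u < 12800, (fun u => chkFin tab u) u = true := ext_range (a := 12400) (len := 400) h31 f_31
  have h33 : ∀ u < 13200, (fun u => chkFin tab u) u = true := ext_range (a := 12800) (len := 400) h32 f_32
  have h34 : ∀ u < 13600, (fun u => chkFin tab u) u = true := ext_range (a := 13200) (len := 400) h33 f_33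
  have h35 : ∀ u < 14000, (fun u => chkFin tab u) u = true := ext_range (a := 13600) (len := 400) h34 f_34
  have h36 : ∀ u < 14400, (fun u => chkFin tab u) u = true := ext_range (a := 14000) (len := 400) h35 f_35
  have h37 : ∀ u < 14800, (fun u => chkFin tab u) u = true := ext_range (a := 14400) (len := 400) h36 f_36
  have h38 : ∀ u < 15200, (fun u => chkFin tab u) u = true := ext_range (a := 14800) (len := 400) h37 f_37
  have h39 : ∀ u < 15600, (fun u => chkFin tab u) u = true := ext_range (a := 15200) (len := 400) h38 f_38
  have h40 : ∀ u < 16000, (fun u => chkFin tab u) u = true := ext_range (a := 15600) (len := 400) h39 f_39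
  have h41 : ∀ u < 16400, (fun u => chkFin tab u) u = true := ext_range (a := 16000) (len := 400) h40 f_40
  have h42 : ∀ u < 16800, (fun u => chkFin tab u) u = true := ext_range (a := 16400) (len := 400) h41 f_41
  have h43 : ∀ u < 17200, (fun u => chkFin tab u) u = true := ext_range (a := 16800) (len := 400) h42 f_42
  have h44 : ∀ u < 17600, (fun u => chkFin tab u) u = true := ext_range (a := 17200) (len := 400) h43 f_43
  have h45 : ∀ u < 18000, (fun u => chkFin tab u) u = true := ext_range (a := 17600) (len := 400) h44 f_44
  have h46 : ∀ u < 18400, (fun u => chkFin tab u) u = true := ext_range (a := 18000) (len := 400) h45 f_45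
  have h47 : ∀ u < 18800, (fun u => chkFin tab u) u = true := ext_range (a := 18400) (len := 400) h46 f_46
  have h48 : ∀ u < 19200, (fun u => chkFin tab u) u = true := ext_range (a := 18800) (len := 400) h47 f_47
  have h49 : ∀ u < 19600, (fun u => chkFin tab u) u = true := ext_range (a := 19200) (len := 400) h48 f_48
  have h50 : ∀ u < 20000, (fun u => chkFin tab u) u = true := ext_range (a := 19600) (len := 400) h49 f_49
  have h51 : ∀ u < 20400, (fun u => chkFin tab u) u = true := ext_range (a := 20000) (len := 400) h50 f_50
  have h52 : ∀ u < 20800, (fun u => chkFin tab u) u = true := ext_range (a := 20400) (len := 400) h51 f_51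
  have h53 : ∀ u < 21200, (fun u => chkFin tab u) u = true := ext_range (a := 20800) (len := 400) h52 f_52
  have h54 : ∀ u < 21600, (fun u => chkFin tab u) u = true := ext_range (a := 21200) (len := 400) h53 f_53
  have h55 : ∀ u < 22000, (fun u => chkFin tab u) u = true := ext_range (a := 21600) (len := 400) h54 f_54
  have h56 : ∀ u < 22400, (fun u => chkFin tab u) u = true := ext_range (a := 22000) (len := 400) h55 f_55
  have h57 : ∀ u < 22800, (fun u => chkFin tab u) u = true := ext_range (a := 22400) (len := 400) h56 f_56
  have h58 : ∀ u < 23200, (fun u => chkFin tab u) u = true := ext_range (a := 22800) (len := 400) h57 f_57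
  have h59 : ∀ u < 23600, (fun u => chkFin tab u) u = true := ext_range (a := 23200) (len := 400) h58 f_58
  have h60 : ∀ u < 24000, (fun u => chkFin tab u) u = true := ext_range (a := 23600) (len := 400) h59 f_59
  have h61 : ∀ u < 24400, (fun u => chkFin tab u) u = true := ext_range (a := 24000) (len := 400) h60 f_60
  have h62 : ∀ u < 24800, (fun u => chkFin tab u) u = true := ext_range (a := 24400) (len := 400) h61 f_61
  have h63 : ∀ u < 25200, (fun u => chkFin tab u) u = true := ext_range (a := 24800) (len := 400) h62 f_62
  have h64 : ∀ u < 25600, (fun u => chkFin tab u) u = true := ext_range (a := 25200) (len := 400) h63 f_63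
  have h65 : ∀ u < 26000, (fun u => chkFin tab u) u = true := ext_range (a := 25600) (len := 400) h64 f_64
  have h66 : ∀ u < 26068, (fun u => chkFin tab u) u = true := ext_range (a := 26000) (len := 68) h65 f_65
  exact h66

theorem hC : ∀ u < 26088, chkCls tab u = true := by
  have h0 : ∀ u < 0, (fun u => chkCls tab u) u = true := range_zero
  have h1 : ∀ u < 2667, (fun u => chkCls tab u) u = true := ext_range (a := 0) (len := 2667) h0 c_0
  have h2 : ∀ u < 5334, (fun u => chkCls tab u) u = true := ext_range (a := 2667) (len := 2667) h1 c_1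
  have h3 : ∀ u < 8001, (fun u => chkCls tab u) u = true := ext_range (a := 5334) (len := 2667) h2 c_2
  have h4 : ∀ u < 10668, (fun u => chkCls tab u) u = true := ext_range (a := 8001) (len := 2667) h3 c_3
  have h5 : ∀ u < 13335, (fun u => chkCls tab u) u = true := ext_range (a := 10668) (len := 2667) h4 c_4
  have h6 : ∀ u < 16002, (fun u => chkCls tab u) u = true := ext_range (a := 13335) (len := 2667) h5 c_5
  have h7 : ∀ u < 18669, (fun u => chkCls tab u) u = true := ext_range (a := 16002) (len := 2667) h6 c_6
  have h8 : ∀ u < 21336, (fun u => chkCls tab u) u = true := ext_range (a := 18669) (len := 2667) h7 c_7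
  have h9 : ∀ u < 24003, (fun u => chkCls tab u) u = true := ext_range (a := 21336) (len := 2667) h8 c_8
  have h10 : ∀ u < 26088, (fun u => chkCls tab u) u = true := ext_range (a := 24003) (len := 2085) h9 c_9
  exact h10

theorem hM1 : ∀ u < 26068, chkM1 tab u = true := by
  have h0 : ∀ u < 0, (fun u => chkM1 tab u) u = true := range_zero
  have h1 : ∀ u < 1039, (fun u => chkM1 tab u) u = true := ext_range (a := 0) (len := 1039) h0 m1_0
  have h2 : ∀ u < 2078, (fun u => chkM1 tab u) u = true := ext_range (a := 1039) (len := 1039) h1 m1_1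
  have h3 : ∀ u < 3117, (fun u => chkM1 tab u) u = true := ext_range (a := 2078) (len := 1039) h2 m1_2
  have h4 : ∀ u < 4156, (fun u => chkM1 tab u) u = true := ext_range (a := 3117) (len := 1039) h3 m1_3
  have h5 : ∀ u < 5195, (fun u => chkM1 tab u) u = true := ext_range (a := 4156) (len := 1039) h4 m1_4
  have h6 : ∀ u < 6234, (fun u => chkM1 tab u) u = true := ext_range (a := 5195) (len := 1039) h5 m1_5
  have h7 : ∀ u < 7273, (fun u => chkM1 tab u) u = true := ext_range (a := 6234) (len := 1039) h6 m1_6
  have h8 : ∀ u < 8312, (fun u => chkM1 tab u) u = true := ext_range (a := 7273) (len := 1039) h7 m1_7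
  have h9 : ∀ u < 9351, (fun u => chkM1 tab u) u = true := ext_range (a := 8312) (len := 1039) h8 m1_8
  have h10 : ∀ u < 10390, (fun u => chkM1 tab u) u = true := ext_range (a := 9351) (len := 1039) h9 m1_9
  have h11 : ∀ u < 11429, (fun u => chkM1 tab u) u = true := ext_range (a := 10390) (len := 1039) h10 m1_10
  have h12 : ∀ u < 12468, (fun u => chkM1 tab u) u = true := ext_range (a := 11429) (len := 1039) h11 m1_11
  have h13 : ∀ u < 13507, (fun u => chkM1 tab u) u = true := ext_range (a := 12468) (len := 1039) h12 m1_12
  have h14 : ∀ u < 14546, (fun u => chkM1 tab u) u = true := ext_range (a := 13507) (len := 1039) h13 m1_13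
  have h15 : ∀ u < 15585, (fun u => chkM1 tab u) u = true := ext_range (a := 14546) (len := 1039) h14 m1_14
  have h16 : ∀ u < 16624, (fun u => chkM1 tab u) u = true := ext_range (a := 15585) (len := 1039) h15 m1_15
  have h17 : ∀ u < 17663, (fun u => chkM1 tab u) u = true := ext_range (a := 16624) (len := 1039) h16 m1_16
  have h18 : ∀ u < 18702, (fun u => chkM1 tab u) u = true := ext_range (a := 17663) (len := 1039) h17 m1_17
  have h19 : ∀ u < 19741, (fun u => chkM1 tab u) u = true := ext_range (a := 18702) (len := 1039) h18 m1_18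
  have h20 : ∀ u < 20780, (fun u => chkM1 tab u) u = true := ext_range (a := 19741) (len := 1039) h19 m1_19
  have h21 : ∀ u < 21819, (fun u => chkM1 tab u) u = true := ext_range (a := 20780) (len := 1039) h20 m1_20
  have h22 : ∀ u < 22858, (fun u => chkM1 tab u) u = true := ext_range (a := 21819) (len := 1039) h21 m1_21
  have h23 : ∀ u < 23897, (fun u => chkM1 tab u) u = true := ext_range (a := 22858) (len := 1039) h22 m1_22
  have h24 : ∀ u < 24936, (fun u => chkM1 tab u) u = true := ext_range (a := 23897) (len := 1039) h23 m1_23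
  have h25 : ∀ u < 25975, (fun u => chkM1 tab u) u = true := ext_range (a := 24936) (len := 1039) h24 m1_24
  have h26 : ∀ u < 26068, (fun u => chkM1 tab u) u = true := ext_range (a := 25975) (len := 93) h25 m1_25
  exact h26

theorem hMA : ∀ u < 26068, chkAux tab aux u = true := by
  have h0 : ∀ u < 0, (fun u => chkAux tab aux u) u = true := range_zero
  have h1 : ∀ u < 4000, (fun u => chkAux tab aux u) u = true := ext_range (a := 0) (len := 4000) h0 ma_0
  have h2 : ∀ u < 8000, (fun u => chkAux tab aux u) u = true := ext_range (a := 4000) (len := 4000) h1 ma_1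
  have h3 : ∀ u < 12000, (fun u => chkAux tab aux u) u = true := ext_range (a := 8000) (len := 4000) h2 ma_2
  have h4 : ∀ u < 16000, (fun u => chkAux tab aux u) u = true := ext_range (a := 12000) (len := 4000) h3 ma_3
  have h5 : ∀ u < 20000, (fun u => chkAux tab aux u) u = true := ext_range (a := 16000) (len := 4000) h4 ma_4
  have h6 : ∀ u < 24000, (fun u => chkAux tab aux u) u = true := ext_range (a := 20000) (len := 4000) h5 ma_5
  have h7 : ∀ u < 26068, (fun u => chkAux tab aux u) u = true := ext_range (a := 24000) (len := 2068) h6 ma_6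
  exact h7

theorem hM2A : ∀ u < 26068, chkFix tab mwordsA u = true := by
  have h0 : ∀ u < 0, (fun u => chkFix tab mwordsA u) u = true := range_zero
  have h1 : ∀ u < 176, (fun u => chkFix tab mwordsA u) u = true := ext_range (a := 0) (len := 176) h0 m2_0
  have h2 : ∀ u < 352, (fun u => chkFix tab mwordsA u) u = true := ext_range (a := 176) (len := 176) h1 m2_1
  have h3 : ∀ u < 528, (fun u => chkFix tab mwordsA u) u = true := ext_range (a := 352) (len := 176) h2 m2_2
  have h4 : ∀ u < 704, (fun u => chkFix tab mwordsA u) u = true := ext_range (a := 528) (len := 176) h3 m2_3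
  have h5 : ∀ u < 880, (fun u => chkFix tab mwordsA u) u = true := ext_range (a := 704) (len := 176) h4 m2_4
  have h6 : ∀ u < 1056, (fun u => chkFix tab mwordsA u) u = true := ext_range (a := 880) (len := 176) h5 m2_5
  have h7 : ∀ u < 1232, (fun u => chkFix tab mwordsA u) u = true := ext_range (a := 1056) (len := 176) h6 m2_6
  have h8 : ∀ u < 1408, (fun u => chkFix tab mwordsA u) u = true := ext_range (a := 1232) (len := 176) h7 m2_7
  have h9 : ∀ u < 1584, (fun u => chkFix tab mwordsA u) u = true := ext_range (a := 1408) (len := 176) h8 m2_8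
  have h10 : ∀ u < 1760, (fun u => chkFix tab mwordsA u) u = true := ext_range (a := 1584) (len := 176) h9 m2_9
  have h11 : ∀ u < 1936, (fun u => chkFix tab mwordsA u) u = true := ext_range (a := 1760) (len := 176) h10 m2_10
  have h12 : ∀ u < 2112, (fun u => chkFix tab mwordsA u) u = true := ext_range (a := 1936) (len := 176) h11 m2_11
  have h13 : ∀ u < 2288, (fun u => chkFix tab mwordsA u) u = true := ext_range (a := 2112) (len := 176) h12 m2_12
  have h14 : ∀ u < 2464, (fun u => chkFix tab mwordsA u) u = true := ext_range (a := 2288) (len := 176) h13 m2_13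
  have h15 : ∀ u < 2640, (fun u => chkFix tab mwordsA u) u = true := ext_range (a := 2464) (len := 176) h14 m2_14
  have h16 : ∀ u < 2816, (fun u => chkFix tab mwordsA u) u = true := ext_range (a := 2640) (len := 176) h15 m2_15
  have h17 : ∀ u < 2992, (fun u => chkFix tab mwordsA u) u = true := ext_range (a := 2816) (len := 176) h16 m2_16
  have h18 : ∀ u < 3168, (fun u => chkFix tab mwordsA u) u = true := ext_range (a := 2992) (len := 176) h17 m2_17
  have h19 : ∀ u < 3344, (fun u => chkFix tab mwordsA u) u = true := ext_range (a := 3168) (len := 176) h18 m2_18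
  have h20 : ∀ u < 3520, (fun u => chkFix tab mwordsA u) u = true := ext_range (a := 3344) (len := 176) h19 m2_19
  have h21 : ∀ u < 3696, (fun u => chkFix tab mwordsA u) u = true := ext_range (a := 3520) (len := 176) h20 m2_20
  have h22 : ∀ u < 3872, (fun u => chkFix tab mwordsA u) u = true := ext_range (a := 3696) (len := 176) h21 m2_21
  have h23 : ∀ u < 4048, (fun u => chkFix tab mwordsA u) u = true := ext_range (a := 3872) (len := 176) h22 m2_22
  have h24 : ∀ u < 4224, (fun u => chkFix tab mwordsA u) u = true := ext_range (a := 4048) (len := 176) h23 m2_23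
  have h25 : ∀ u < 4400, (fun u => chkFix tab mwordsA u) u = true := ext_range (a := 4224) (len := 176) h24 m2_24
  have h26 : ∀ u < 4576, (fun u => chkFix tab mwordsA u) u = true := ext_range (a := 4400) (len := 176) h25 m2_25
  have h27 : ∀ u < 4752, (fun u => chkFix tab mwordsA u) u = true := ext_range (a := 4576) (len := 176) h26 m2_26
  have h28 : ∀ u < 4928, (fun u => chkFix tab mwordsA u) u = true := ext_range (a := 4752) (len := 176) h27 m2_27
  have h29 : ∀ u < 5104, (fun u => chkFix tab mwordsA u) u = true := ext_range (a := 4928) (len := 176) h28 m2_28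
  have h30 : ∀ u < 5280, (fun u => chkFix tab mwordsA u) u = true := ext_range (a := 5104) (len := 176) h29 m2_29
  have h31 : ∀ u < 5456, (fun u => chkFix tab mwordsA u) u = true := ext_range (a := 5280) (len := 176) h30 m2_30
  have h32 : ∀ u < 5632, (fun u => chkFix tab mwordsA u) u = true := ext_range (a := 5456) (len := 176) h31 m2_31
  have h33 : ∀ u < 5808, (fun u => chkFix tab mwordsA u) u = true := ext_range (a := 5632) (len := 176) h32 m2_32
  have h34 : ∀ u < 5984, (fun u => chkFix tab mwordsA u) u = true := ext_range (a := 5808) (len := 176) h33 m2_33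
  have h35 : ∀ u < 6160, (fun u => chkFix tab mwordsA u) u = true := ext_range (a := 5984) (len := 176) h34 m2_34
  have h36 : ∀ u < 6336, (fun u => chkFix tab mwordsA u) u = true := ext_range (a := 6160) (len := 176) h35 m2_35
  have h37 : ∀ u < 6512, (fun u => chkFix tab mwordsA u) u = true := ext_range (a := 6336) (len := 176) h36 m2_36
  have h38 : ∀ u < 6688, (fun u => chkFix tab mwordsA u) u = true := ext_range (a := 6512) (len := 176) h37 m2_37
  have h39 : ∀ u < 6864, (fun u => chkFix tab mwordsA u) u = true := ext_range (a := 6688) (len := 176) h38 m2_38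
  have h40 : ∀ u < 7040, (fun u => chkFix tab mwordsA u) u = true := ext_range (a := 6864) (len := 176) h39 m2_39
  have h41 : ∀ u < 7216, (fun u => chkFix tab mwordsA u) u = true := ext_range (a := 7040) (len := 176) h40 m2_40
  have h42 : ∀ u < 7392, (fun u => chkFix tab mwordsA u) u = true := ext_range (a := 7216) (len := 176) h41 m2_41
  have h43 : ∀ u < 7568, (fun u => chkFix tab mwordsA u) u = true := ext_range (a := 7392) (len := 176) h42 m2_42
  have h44 : ∀ u < 7744, (fun u => chkFix tab mwordsA u) u = true := ext_range (a := 7568) (len := 176) h43 m2_43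
  have h45 : ∀ u < 7920, (fun u => chkFix tab mwordsA u) u = true := ext_range (a := 7744) (len := 176) h44 m2_44
  have h46 : ∀ u < 8096, (fun u => chkFix tab mwordsA u) u = true := ext_range (a := 7920) (len := 176) h45 m2_45
  have h47 : ∀ u < 8272, (fun u => chkFix tab mwordsA u) u = true := ext_range (a := 8096) (len := 176) h46 m2_46
  have h48 : ∀ u < 8448, (fun u => chkFix tab mwordsA u) u = true := ext_range (a := 8272) (len := 176) h47 m2_47
  have h49 : ∀ u < 8624, (fun u => chkFix tab mwordsA u) u = true := ext_range (a := 8448) (len := 176) h48 m2_48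
  have h50 : ∀ u < 8800, (fun u => chkFix tab mwordsA u) u = true := ext_range (a := 8624) (len := 176) h49 m2_49
  have h51 : ∀ u < 8976, (fun u => chkFix tab mwordsA u) u = true := ext_range (a := 8800) (len := 176) h50 m2_50
  have h52 : ∀ u < 9152, (fun u => chkFix tab mwordsA u) u = true := ext_range (a := 8976) (len := 176) h51 m2_51
  have h53 : ∀ u < 9328, (fun u => chkFix tab mwordsA u) u = true := ext_range (a := 9152) (len := 176) h52 m2_52
  have h54 : ∀ u < 9504, (fun u => chkFix tab mwordsA u) u = true := ext_range (a := 9328) (len := 176) h53 m2_53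
  have h55 : ∀ u < 9680, (fun u => chkFix tab mwordsA u) u = true := ext_range (a := 9504) (len := 176) h54 m2_54
  have h56 : ∀ u < 9856, (fun u => chkFix tab mwordsA u) u = true := ext_range (a := 9680) (len := 176) h55 m2_55
  have h57 : ∀ u < 10032, (fun u => chkFix tab mwordsA u) u = true := ext_range (a := 9856) (len := 176) h56 m2_56
  have h58 : ∀ u < 10208, (fun u => chkFix tab mwordsA u) u = true := ext_range (a := 10032) (len := 176) h57 m2_57
  have h59 : ∀ u < 10384, (fun u => chkFix tab mwordsA u) u = true := ext_range (a := 10208) (len := 176) h58 m2_58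
  have h60 : ∀ u < 10560, (fun u => chkFix tab mwordsA u) u = true := ext_range (a := 10384) (len := 176) h59 m2_59
  have h61 : ∀ u < 10736, (fun u => chkFix tab mwordsA u) u = true := ext_range (a := 10560) (len := 176) h60 m2_60
  have h62 : ∀ u < 10912, (fun u => chkFix tab mwordsA u) u = true := ext_range (a := 10736) (len := 176) h61 m2_61
  have h63 : ∀ u < 11088, (fun u => chkFix tab mwordsA u) u = true := ext_range (a := 10912) (len := 176) h62 m2_62
  have h64 : ∀ u < 11264, (fun u => chkFix tab mwordsA u) u = true := ext_range (a := 11088) (len := 176) h63 m2_63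
  have h65 : ∀ u < 11440, (fun u => chkFix tab mwordsA u) u = true := ext_range (a := 11264) (len := 176) h64 m2_64
  have h66 : ∀ u < 11616, (fun u => chkFix tab mwordsA u) u = true := ext_range (a := 11440) (len := 176) h65 m2_65
  have h67 : ∀ u < 11792, (fun u => chkFix tab mwordsA u) u = true := ext_range (a := 11616) (len := 176) h66 m2_66
  have h68 : ∀ u < 11968, (fun u => chkFix tab mwordsA u) u = true := ext_range (a := 11792) (len := 176) h67 m2_67
  have h69 : ∀ u < 12144, (fun u => chkFix tab mwordsA u) u = true := ext_range (a := 11968) (len := 176) h68 m2_68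
  have h70 : ∀ u < 12320, (fun u => chkFix tab mwordsA u) u = true := ext_range (a := 12144) (len := 176) h69 m2_69
  have h71 : ∀ u < 12496, (fun u => chkFix tab mwordsA u) u = true := ext_range (a := 12320) (len := 176) h70 m2_70
  have h72 : ∀ u < 12672, (fun u => chkFix tab mwordsA u) u = true := ext_range (a := 12496) (len := 176) h71 m2_71
  have h73 : ∀ u < 12848, (fun u => chkFix tab mwordsA u) u = true := ext_range (a := 12672) (len := 176) h72 m2_72
  have h74 : ∀ u < 13024, (fun u => chkFix tab mwordsA u) u = true := ext_range (a := 12848) (len := 176) h73 m2_73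
  have h75 : ∀ u < 13200, (fun u => chkFix tab mwordsA u) u = true := ext_range (a := 13024) (len := 176) h74 m2_74
  have h76 : ∀ u < 13376, (fun u => chkFix tab mwordsA u) u = true := ext_range (a := 13200) (len := 176) h75 m2_75
  have h77 : ∀ u < 13552, (fun u => chkFix tab mwordsA u) u = true := ext_range (a := 13376) (len := 176) h76 m2_76
  have h78 : ∀ u < 13728, (fun u => chkFix tab mwordsA u) u = true := ext_range (a := 13552) (len := 176) h77 m2_77
  have h79 : ∀ u < 13904, (fun u => chkFix tab mwordsA u) u = true := ext_range (a := 13728) (len := 176) h78 m2_78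
  have h80 : ∀ u < 14080, (fun u => chkFix tab mwordsA u) u = true := ext_range (a := 13904) (len := 176) h79 m2_79
  have h81 : ∀ u < 14256, (fun u => chkFix tab mwordsA u) u = true := ext_range (a := 14080) (len := 176) h80 m2_80
  have h82 : ∀ u < 14432, (fun u => chkFix tab mwordsA u) u = true := ext_range (a := 14256) (len := 176) h81 m2_81
  have h83 : ∀ u < 14608, (fun u => chkFix tab mwordsA u) u = true := ext_range (a := 14432) (len := 176) h82 m2_82
  have h84 : ∀ u < 14784, (fun u => chkFix tab mwordsA u) u = true := ext_range (a := 14608) (len := 176) h83 m2_83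
  have h85 : ∀ u < 14960, (fun u => chkFix tab mwordsA u) u = true := ext_range (a := 14784) (len := 176) h84 m2_84
  have h86 : ∀ u < 15136, (fun u => chkFix tab mwordsA u) u = true := ext_range (a := 14960) (len := 176) h85 m2_85
  have h87 : ∀ u < 15312, (fun u => chkFix tab mwordsA u) u = true := ext_range (a := 15136) (len := 176) h86 m2_86
  have h88 : ∀ u < 15488, (fun u => chkFix tab mwordsA u) u = true := ext_range (a := 15312) (len := 176) h87 m2_87
  have h89 : ∀ u < 15664, (fun u => chkFix tab mwordsA u) u = true := ext_range (a := 15488) (len := 176) h88 m2_88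
  have h90 : ∀ u < 15840, (fun u => chkFix tab mwordsA u) u = true := ext_range (a := 15664) (len := 176) h89 m2_89
  have h91 : ∀ u < 16016, (fun u => chkFix tab mwordsA u) u = true := ext_range (a := 15840) (len := 176) h90 m2_90
  have h92 : ∀ u < 16192, (fun u => chkFix tab mwordsA u) u = true := ext_range (a := 16016) (len := 176) h91 m2_91
  have h93 : ∀ u < 16368, (fun u => chkFix tab mwordsA u) u = true := ext_range (a := 16192) (len := 176) h92 m2_92
  have h94 : ∀ u < 16544, (fun u => chkFix tab mwordsA u) u = true := ext_range (a := 16368) (len := 176) h93 m2_93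
  have h95 : ∀ u < 16720, (fun u => chkFix tab mwordsA u) u = true := ext_range (a := 16544) (len := 176) h94 m2_94
  have h96 : ∀ u < 16896, (fun u => chkFix tab mwordsA u) u = true := ext_range (a := 16720) (len := 176) h95 m2_95
  have h97 : ∀ u < 17072, (fun u => chkFix tab mwordsA u) u = true := ext_range (a := 16896) (len := 176) h96 m2_96
  have h98 : ∀ u < 17248, (fun u => chkFix tab mwordsA u) u = true := ext_range (a := 17072) (len := 176) h97 m2_97
  have h99 : ∀ u < 17424, (fun u => chkFix tab mwordsA u) u = true := ext_range (a := 17248) (len := 176) h98 m2_98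
  have h100 : ∀ u < 17600, (fun u => chkFix tab mwordsA u) u = true := ext_range (a := 17424) (len := 176) h99 m2_99
  have h101 : ∀ u < 17776, (fun u => chkFix tab mwordsA u) u = true := ext_range (a := 17600) (len := 176) h100 m2_100
  have h102 : ∀ u < 17952, (fun u => chkFix tab mwordsA u) u = true := ext_range (a := 17776) (len := 176) h101 m2_101
  have h103 : ∀ u < 18128, (fun u => chkFix tab mwordsA u) u = true := ext_range (a := 17952) (len := 176) h102 m2_102
  have h104 : ∀ u < 18304, (fun u => chkFix tab mwordsA u) u = true := ext_range (a := 18128) (len := 176) h103 m2_103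
  have h105 : ∀ u < 18480, (fun u => chkFix tab mwordsA u) u = true := ext_range (a := 18304) (len := 176) h104 m2_104
  have h106 : ∀ u < 18656, (fun u => chkFix tab mwordsA u) u = true := ext_range (a := 18480) (len := 176) h105 m2_105
  have h107 : ∀ u < 18832, (fun u => chkFix tab mwordsA u) u = true := ext_range (a := 18656) (len := 176) h106 m2_106
  have h108 : ∀ u < 19008, (fun u => chkFix tab mwordsA u) u = true := ext_range (a := 18832) (len := 176) h107 m2_107
  have h109 : ∀ u < 19184, (fun u => chkFix tab mwordsA u) u = true := ext_range (a := 19008) (len := 176) h108 m2_108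
  have h110 : ∀ u < 19360, (fun u => chkFix tab mwordsA u) u = true := ext_range (a := 19184) (len := 176) h109 m2_109
  have h111 : ∀ u < 19536, (fun u => chkFix tab mwordsA u) u = true := ext_range (a := 19360) (len := 176) h110 m2_110
  have h112 : ∀ u < 19712, (fun u => chkFix tab mwordsA u) u = true := ext_range (a := 19536) (len := 176) h111 m2_111
  have h113 : ∀ u < 19888, (fun u => chkFix tab mwordsA u) u = true := ext_range (a := 19712) (len := 176) h112 m2_112
  have h114 : ∀ u < 20064, (fun u => chkFix tab mwordsA u) u = true := ext_range (a := 19888) (len := 176) h113 m2_113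
  have h115 : ∀ u < 20240, (fun u => chkFix tab mwordsA u) u = true := ext_range (a := 20064) (len := 176) h114 m2_114
  have h116 : ∀ u < 20416, (fun u => chkFix tab mwordsA u) u = true := ext_range (a := 20240) (len := 176) h115 m2_115
  have h117 : ∀ u < 20592, (fun u => chkFix tab mwordsA u) u = true := ext_range (a := 20416) (len := 176) h116 m2_116
  have h118 : ∀ u < 20768, (fun u => chkFix tab mwordsA u) u = true := ext_range (a := 20592) (len := 176) h117 m2_117
  have h119 : ∀ u < 20944, (fun u => chkFix tab mwordsA u) u = true := ext_range (a := 20768) (len := 176) h118 m2_118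
  have h120 : ∀ u < 21120, (fun u => chkFix tab mwordsA u) u = true := ext_range (a := 20944) (len := 176) h119 m2_119
  have h121 : ∀ u < 21296, (fun u => chkFix tab mwordsA u) u = true := ext_range (a := 21120) (len := 176) h120 m2_120
  have h122 : ∀ u < 21472, (fun u => chkFix tab mwordsA u) u = true := ext_range (a := 21296) (len := 176) h121 m2_121
  have h123 : ∀ u < 21648, (fun u => chkFix tab mwordsA u) u = true := ext_range (a := 21472) (len := 176) h122 m2_122
  have h124 : ∀ u < 21824, (fun u => chkFix tab mwordsA u) u = true := ext_range (a := 21648) (len := 176) h123 m2_123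
  have h125 : ∀ u < 22000, (fun u => chkFix tab mwordsA u) u = true := ext_range (a := 21824) (len := 176) h124 m2_124
  have h126 : ∀ u < 22176, (fun u => chkFix tab mwordsA u) u = true := ext_range (a := 22000) (len := 176) h125 m2_125
  have h127 : ∀ u < 22352, (fun u => chkFix tab mwordsA u) u = true := ext_range (a := 22176) (len := 176) h126 m2_126
  have h128 : ∀ u < 22528, (fun u => chkFix tab mwordsA u) u = true := ext_range (a := 22352) (len := 176) h127 m2_127
  have h129 : ∀ u < 22704, (fun u => chkFix tab mwordsA u) u = true := ext_range (a := 22528) (len := 176) h128 m2_128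
  have h130 : ∀ u < 22880, (fun u => chkFix tab mwordsA u) u = true := ext_range (a := 22704) (len := 176) h129 m2_129
  have h131 : ∀ u < 23056, (fun u => chkFix tab mwordsA u) u = true := ext_range (a := 22880) (len := 176) h130 m2_130
  have h132 : ∀ u < 23232, (fun u => chkFix tab mwordsA u) u = true := ext_range (a := 23056) (len := 176) h131 m2_131
  have h133 : ∀ u < 23408, (fun u => chkFix tab mwordsA u) u = true := ext_range (a := 23232) (len := 176) h132 m2_132
  have h134 : ∀ u < 23584, (fun u => chkFix tab mwordsA u) u = true := ext_range (a := 23408) (len := 176) h133 m2_133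
  have h135 : ∀ u < 23760, (fun u => chkFix tab mwordsA u) u = true := ext_range (a := 23584) (len := 176) h134 m2_134
  have h136 : ∀ u < 23936, (fun u => chkFix tab mwordsA u) u = true := ext_range (a := 23760) (len := 176) h135 m2_135
  have h137 : ∀ u < 24112, (fun u => chkFix tab mwordsA u) u = true := ext_range (a := 23936) (len := 176) h136 m2_136
  have h138 : ∀ u < 24288, (fun u => chkFix tab mwordsA u) u = true := ext_range (a := 24112) (len := 176) h137 m2_137
  have h139 : ∀ u < 24464, (fun u => chkFix tab mwordsA u) u = true := ext_range (a := 24288) (len := 176) h138 m2_138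
  have h140 : ∀ u < 24640, (fun u => chkFix tab mwordsA u) u = true := ext_range (a := 24464) (len := 176) h139 m2_139
  have h141 : ∀ u < 24816, (fun u => chkFix tab mwordsA u) u = true := ext_range (a := 24640) (len := 176) h140 m2_140
  have h142 : ∀ u < 24992, (fun u => chkFix tab mwordsA u) u = true := ext_range (a := 24816) (len := 176) h141 m2_141
  have h143 : ∀ u < 25168, (fun u => chkFix tab mwordsA u) u = true := ext_range (a := 24992) (len := 176) h142 m2_142
  have h144 : ∀ u < 25344, (fun u => chkFix tab mwordsA u) u = true := ext_range (a := 25168) (len := 176) h143 m2_143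
  have h145 : ∀ u < 25520, (fun u => chkFix tab mwordsA u) u = true := ext_range (a := 25344) (len := 176) h144 m2_144
  have h146 : ∀ u < 25696, (fun u => chkFix tab mwordsA u) u = true := ext_range (a := 25520) (len := 176) h145 m2_145
  have h147 : ∀ u < 25872, (fun u => chkFix tab mwordsA u) u = true := ext_range (a := 25696) (len := 176) h146 m2_146
  have h148 : ∀ u < 26048, (fun u => chkFix tab mwordsA u) u = true := ext_range (a := 25872) (len := 176) h147 m2_147
  have h149 : ∀ u < 26068, (fun u => chkFix tab mwordsA u) u = true := ext_range (a := 26048) (len := 20) h148 m2_148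
  exact h149

theorem hE : ∀ c < 6, ∀ u < 26088, chkE tab c u = true := by
  intro c hc
  interval_cases c
  · exact hE0
  · exact hE1
  · exact hE2
  · exact hE3
  · exact hE4
  · exact hE5

end Cfsg.Agent.Helper9.TCData.L37C0
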