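import Cfsg.Agent.Lib.Helper9.TC2Cox
import Cfsg.Agent.Lib.Helper9.TC2Aux
import Cfsg.Agent.Lib.Helper9.TC2BSGS
import Cfsg.Agent.Lib.Helper9.TC2Pack
import Cfsg.Agent.Lib.Helper9.TCData.L37C0.P0

set_option autoImplicit false
set_option maxRecDepth 100000

namespace Cfsg.Agent.Helper9.TCData.L37C0
open Cfsg.Agent.Helper9.TC2
/-- The rotated relators. -/
noncomputable def rotT : WT := (WT.node 16 (WT.node 8 (WT.node 4 (WT.node 2 (WT.node 1 (WT.leaf [0, 3, 0, 3]) (WT.leaf [0, 4, 0, 4])) (WT.node 3 (WT.leaf [0, 0, 0]) (WT.leaf [0, 5, 0, 5]))) (WT.node 6 (WT.node 5 (WT.leaf [0, 2, 0, 2, 0, 2]) (WT.leaf [1, 2, 1, 2, 1, 2])) (WT.node 7 (WT.leaf [2, 4, 2, 4]) (WT.leaf [2, 0, 2, 0, 2, 0])))) (WT.node 12 (WT.node 10 (WT.node 9 (WT.leaf [2, 3, 2, 3, 2, 3, 2, 5, 3]) (WT.leaf [2, 5, 2, 5])) (WT.node 11 (WT.leaf [2, 3, 2, 3,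 2, 5, 3, 2, 3]) (WT.leaf [2, 3, 2, 3, 2, 3, 2, 3, 2, 3, 2, 3, 2, 3, 2, 3]))) (WT.node 14 (WT.node 13 (WT.leaf [2, 1, 2, 1, 2, 1]) (WT.leaf [2, 3, 2, 5, 3, 2, 3, 2, 3])) (WT.node 15 (WT.leaf [2, 5, 3, 2, 3, 2, 3, 2, 3]) (WT.leaf [3, 4, 3, 4, 3, 4]))))) (WT.node 24 (WT.node 20 (WT.node 18 (WT.node 17 (WT.leaf [3, 5, 3, 5]) (WT.leaf [3, 2, 3, 2, 3, 2, 5, 3, 2])) (WT.node 19 (WT.leaf [3, 0, 3, 0]) (WT.leaf [3, 2, 3, 2, 3, 2, 3, 2, 3, 2, 3, 2, 3, 2, 3, 2]))) (WT.node 22 (WT.node 21 (WT.leaf [3, 2, 5, 3, 2, 3, 2, 3, 2]) (WT.leaf [3, 2, 3, 2, 3, 2, 3, 2, 5])) (WT.node 23 (WT.leaf [3, 2, 3, 2, 5, 3, 2, 3, 2]) (WT.leaf [4, 5, 4, 5, 4, 5])))) (WT.node 28 (WT.node 26 (WT.node 25 (WT.leaf [4, 3, 4, 3, 4, 3]) (WT.leaf [4, 2, 4, 2])) (WT.node 27 (WT.leaf [4, 0, 4, 0]) (WT.leaf [5, 3, 5, 3]))) (WT.node 30 (WT.node 29 (WT.leaf [5,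 2, 5, 2]) (WT.leaf [5, 0, 5, 0])) (WT.node 31 (WT.leaf [5, 4, 5, 4, 5, 4]) (WT.leaf [5, 3, 2, 3, 2, 3, 2, 3, 2]))))))

/-- The sources of the rotated relators: relator and rotation. -/
def rotSrc : List (ℕ × ℕ) := [(20, 2), (21, 2), (17, 1), (22, 2), (18, 2), (19, 2), (2, 2), (18, 1), (16, 2), (3, 2), (16, 4), (1, 2), (19, 1), (16, 6), (16, 8), (6, 2), (7, 2), (16, 3), (20, 1), (1, 1), (16, 7), (16, 1), (16, 5), (11, 2), (6, 1), (2, 1), (21, 1), (7, 1), (3, 1), (22, 1), (11, 1), (16, 0)]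

/-- The relators, as words of columns. -/
def relWords : List (List ℕ) := [[2, 2], [2, 3, 2, 3, 2, 3, 2, 3, 2, 3, 2, 3, 2, 3, 2, 3], [2, 4, 2, 4], [2, 5, 2, 5], [3, 2, 3, 2, 3, 2, 3, 2, 3, 2, 3, 2, 3, 2, 3, 2], [3, 3], [3, 4, 3, 4, 3, 4], [3, 5, 3, 5], [4, 2, 4, 2], [4, 3, 4, 3, 4, 3], [4, 4], [4, 5, 4, 5, 4, 5], [5, 2, 5, 2], [5, 3, 5, 3], [5, 4, 5, 4, 5, 4], [5, 5], [5, 3, 2, 3, 2, 3, 2, 3, 2], [0, 0, 0], [0, 2, 0, 2, 0, 2], [1, 2, 1, 2, 1, 2], [0, 3, 0, 3], [0, 4, 0, 4], [0, 5, 0, 5]]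

/-- The words of the auxiliary columns. -/
def aux : List (List ℕ) := []

/-- The words checked on the permutation model, with auxiliary columns. -/
def mwordsA : List (List ℕ) := [[2, 3, 2, 3, 2, 3, 2, 3, 2, 3, 2, 3, 2, 3, 2, 3], [2, 4, 2, 4], [2, 5, 2, 5], [3, 4, 3, 4, 3, 4], [3, 5, 3, 5], [4, 5, 4, 5, 4, 5], [5, 3, 2, 3, 2, 3, 2, 3, 2], [0, 0, 0], [0, 2, 0, 2, 0, 2], [1, 2, 1, 2, 1, 2], [0, 3, 0, 3], [0, 4, 0, 4], [0, 5, 0, 5]]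

/-- The table. -/
noncomputable def tab : Tab where
  k := 6
  inv := fun c => (bif Nat.beq c 0 then 1 else (bif Nat.beq c 1 then 0 else (bif Nat.beq c 2 then 2 else (bif Nat.beq c 3 then 3 else (bif Nat.beq c 4 then 4 else (bif Nat.beq c 5 then 5 else c))))))
  N := 26088
  n := 26068
  Tmax := 156473
  wn := 15
  mn := 0x7fff
  subs := [[0], [2], [4], [5]]
  rot := fun i => rotT.getF i
  ent := fun c i => bget2 entT_0 7 8 33 0x1ffffffff 255 c i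
  cer := fun c i => bget2 cerT_0 6 9 17 0x1ffff 511 c i
  tau := fun c i => bget2 tauT_0 5 10 15 0x7fff 1023 c i
  lk := fun i => bget lkT_0 9 32 0xffffffff 511 i
  lc := fun i => bget lcT_0 8 33 0x1ffffffff 255 i
  pn := fun i => bget pnT_0 9 18 0x3ffff 511 i
  cls := fun i => bget clsT_0 10 15 0x7fff 1023 i
  rep := fun i => bget repT_0 10 15 0x7fff 1023 i

end Cfsg.Agent.Helper9.TCData.L37C0
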