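import Cfsg.Agent.Lib.Helper9.TCData.L37C0.Main

set_option autoImplicit false
set_option maxRecDepth 1000000

namespace Cfsg.Agent.Helper9.TCData.L37C0
open Cfsg.Agent.Helper9.TC2

theorem f_24 : allRange 9600 400 (fun u => chkFin tab u) = true := by decide +kernel

theorem f_25 : allRange 10000 400 (fun u => chkFin tab u) = true := by decide +kernel

theorem f_26 : allRange 10400 400 (fun u => chkFin tab u) = true := by decide +kernel

theorem f_27 : allRange 10800 400 (fun u => chkFin tab u) = true := by decide +kernel

theorem f_28 : allRange 11200 400 (fun u => chkFin tab u) = true := by decide +kernel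

theorem f_29 : allRange 11600 400 (fun u => chkFin tab u) = true := by decide +kernel

theorem f_30 : allRange 12000 400 (fun u => chkFin tab u) = true := by decide +kernel

theorem f_31 : allRange 12400 400 (fun u => chkFin tab u) = true := by decide +kernel


end Cfsg.Agent.Helper9.TCData.L37C0
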